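import Cfsg.Agent.H327.PB.TitsAbs
import Cfsg.Agent.S1074

/-!
# S3876, the row of the Tits group (helper327)
-/

set_option autoImplicit false
set_option linter.unusedSectionVars false

namespace Cfsg.Agent.H327.PB

open Subgroup Cfsg Cfsg.Agent.H745.RvTits Cfsg.Agent.H543.PiBS Cfsg.Agent.H20.FrobTools

universe u

section sub

variable {G : Type u} [Group G] (D : TT G) {H : Subgroup G} (hN : normalizer (D.R : Set G) ≤ H)

/-- the configuration inside a subgroup -/
def sub [Finite G] : TT H where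
  u := ⟨D.u, hN (le_normalizer D.uR)⟩
  z := ⟨D.z, hN (le_normalizer D.zR)⟩
  r := ⟨D.r, hN (le_normalizer D.rR)⟩
  g := ⟨D.g, hN D.gN⟩
  e := ⟨D.e, hN D.eN⟩
  p3 := by
    have h1 : IsPGroup 3 ((D.R).subgroupOf H) := D.p3.comap_of_injective H.subtype H.subtype_injective
    refine h1.to_le ?_
    rw [closure_le]
    rintro w hw
    simp only [Set.mem_insert_iff, Set.mem_singleton_iff] at hw
    rcases hw with rfl | rfl | rfl
    · exact D.uR
    · exact D.rR
    · exact D.zR
  z1 := fun h => D.z1 (congrArg Subtype.val h)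
  u1 := fun h => D.u1 (congrArg Subtype.val h)
  u3 := Subtype.ext D.u3
  z3 := Subtype.ext D.z3
  r3 := Subtype.ext D.r3
  zu := Subtype.ext D.zu
  zr := Subtype.ext D.zr
  ru := Subtype.ext D.ru
  g4 := Subtype.ext D.g4
  gz := Subtype.ext D.gz
  gu := Subtype.ext D.gu
  gr := Subtype.ext D.gr
  ez := Subtype.ext D.ez
  eu := Subtype.ext D.eu
  er := Subtype.ext D.er

theorem sub_map [Finite G] : (sub D hN).R.map H.subtype = D.R := by
  unfold TT.R
  rw [MonoidHom.map_closure]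
  congr 1
  ext w
  simp only [Set.mem_image, Set.mem_insert_iff, Set.mem_singleton_iff]
  constructor
  · rintro ⟨y, rfl | rfl | rfl, rfl⟩
    · exact Or.inl rfl
    · exact Or.inr (Or.inl rfl)
    · exact Or.inr (Or.inr rfl)
  · rintro (rfl | rfl | rfl)
    · exact ⟨(sub D hN).u, Or.inl rfl, rfl⟩
    · exact ⟨(sub D hN).r, Or.inr (Or.inl rfl), rfl⟩
    · exact ⟨(sub D hN).z, Or.inr (Or.inr rfl), rfl⟩

theorem mem_sub [Finite G] {y : H} : y ∈ (sub D hN).R ↔ (y : G) ∈ D.R := by
  rw [← sub_map D hN]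
  constructor
  · exact fun h => ⟨y, h, rfl⟩
  · rintro ⟨y', hy', h⟩
    have : y' = y := Subtype.ext h
    exact this ▸ hy'

end sub

section core

variable {G : Type u} [Group G] [Finite G] (D : TT G) (hG : Nat.card G = 2 ^ 11 * 3 ^ 3 * 5 ^ 2 * 13)
  (hC : Nat.card (centralizer ({D.z} : Set G)) = 108)

include hG hC in
/-- no subgroup of order `2 ^ 11 * 27` contains `N(R)` -/
theorem no_sub {H : Subgroup G} (hN : normalizer (D.R : Set G) ≤ H) (hH : Nat.card H = 2 ^ 11 * 27) : False := by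
  refine false_of (sub D hN) ?_ ?_ ?_ hH ?_
  · have h := D.card_R hG
    rw [← sub_map D hN] at h
    rw [← h]
    exact Nat.card_congr ((sub D hN).R.equivMapOfInjective _ H.subtype_injective).toEquiv
  · intro c hc
    have h1 : (c : G) ∈ centralizer ({D.z} : Set G) := mem_cent.2 (congrArg Subtype.val (mem_cent.1 hc))
    have h2 := D.Cz_le hG hC h1
    rw [mem_normalizer_iff]
    intro y
    rw [mem_sub, mem_sub]
    exact mem_normalizer_iff.1 h2 y
  · intro c hc
    rw [mem_sub]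
    apply D.cent_le_R hG hC
    rw [mem_centralizer_iff]
    intro y hy
    have hyH : y ∈ H := hN (le_normalizer hy)
    have := mem_centralizer_iff.1 hc ⟨y, hyH⟩ ((mem_sub D hN).2 hy)
    exact congrArg Subtype.val this
  · have hle : centralizer ({D.z} : Set G) ≤ H := (D.Cz_le hG hC).trans hN
    have e : centralizer ({(sub D hN).z} : Set H) = (centralizer ({D.z} : Set G)).subgroupOf H := by
      ext c
      exact ⟨fun h => mem_cent.2 (congrArg Subtype.val (mem_cent.1 h)), fun h => mem_cent.2 (Subtype.ext (mem_cent.1 h))⟩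
    rw [e, Nat.card_congr (subgroupOfEquivOfLe hle).toEquiv, hC]

end core

section row

theorem card_hall {G : Type u} [Group G] [Finite G] {π : Set ℕ} {H : Subgroup G} (hH : IsPiHall π H) {a b : ℕ}
    (hG : Nat.card G = a * b) (ha : ∀ p : ℕ, p.Prime → p ∣ a → p ∈ π) (hb : ∀ p : ℕ, p.Prime → p ∣ b → p ∉ π) :
    Nat.card H = a ∧ H.index = b := by
  have h1 := H.card_mul_index
  rw [hG] at h1
  have hb0 : b ≠ 0 := by
    rintro rfl
    rw [mul_zero] at hG
    exact Nat.card_pos.ne' hG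
  have ha0 : a ≠ 0 := by
    rintro rfl
    rw [zero_mul] at hG
    exact Nat.card_pos.ne' hG
  have c1 : Nat.Coprime (Nat.card H) b := by
    by_contra hn
    obtain ⟨p, hp, h2, h3⟩ := Nat.Prime.not_coprime_iff_dvd.mp hn
    exact hb p hp h3 (hH.1 p hp h2)
  have c2 : Nat.Coprime H.index a := by
    by_contra hn
    obtain ⟨p, hp, h2, h3⟩ := Nat.Prime.not_coprime_iff_dvd.mp hn
    exact hH.2 p hp (ha p hp h3) h2
  have h2 : Nat.card H = a := by
    apply Nat.dvd_antisymm
    · exact c1.dvd_of_dvd_mul_right ⟨_, h1.symm⟩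
    · exact c2.symm.dvd_of_dvd_mul_right ⟨b, h1⟩
  refine ⟨h2, ?_⟩
  rw [h2] at h1
  exact Nat.eq_of_mul_eq_mul_left (Nat.pos_of_ne_zero ha0) h1

theorem prime_of_dvd {p : ℕ} (hp : p.Prime) (h : p ∣ 2 ^ 11 * 3 ^ 3 * 5 ^ 2 * 13) : p = 2 ∨ p = 3 ∨ p = 5 ∨ p = 13 := by
  rw [hp.dvd_mul, hp.dvd_mul, hp.dvd_mul] at h
  rcases h with ((h | h) | h) | h
  · exact Or.inl ((Nat.prime_dvd_prime_iff_eq hp Nat.prime_two).1 (hp.dvd_of_dvd_pow h))
  · exact Or.inr (Or.inl ((Nat.prime_dvd_prime_iff_eq hp Nat.prime_three).1 (hp.dvd_of_dvd_pow h)))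
  · exact Or.inr (Or.inr (Or.inl ((Nat.prime_dvd_prime_iff_eq hp Nat.prime_five).1 (hp.dvd_of_dvd_pow h))))
  · exact Or.inr (Or.inr (Or.inr ((Nat.prime_dvd_prime_iff_eq hp (by norm_num)).1 h)))

variable {G : Type u} [Group G] [Finite G] (D : TT G) (x : G) (hx : orderOf x = 13)
  (hG : Nat.card G = 2 ^ 11 * 3 ^ 3 * 5 ^ 2 * 13)
  (hC : Nat.card (centralizer ({D.z} : Set G)) = 108)
  (h5c : ∀ y : G, orderOf y = 5 → Nat.card (centralizer ({y} : Set G)) = 50)
  {π : Set ℕ} (h2 : 2 ∈ π) (h3 : 3 ∈ π) (hD : DC π G)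

include hG in
theorem piSub {K : Subgroup G} (h5 : ¬ 5 ∣ Nat.card K) (h2 : 2 ∈ π) (h3 : 3 ∈ π)
    (h13 : 13 ∣ Nat.card K → 13 ∈ π) : IsPiSubgroup π K := by
  intro p hp hd
  have h1 : p ∣ 2 ^ 11 * 3 ^ 3 * 5 ^ 2 * 13 := by
    rw [← hG]
    exact hd.trans (card_subgroup_dvd_card K)
  rcases prime_of_dvd hp h1 with rfl | rfl | rfl | rfl
  · exact h2
  · exact h3
  · exact absurd hd h5
  · exact h13 hd

include hG hC h2 h3 hD in
/-- `π ∩ {5, 13} = ∅` -/
theorem case_none (h5 : 5 ∉ π) (h13 : 13 ∉ π) : False := by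
  have f3 : Fact (Nat.Prime 3) := ⟨Nat.prime_three⟩
  have hN : IsPiSubgroup π (normalizer (((D.T hG : Sylow 3 G) : Subgroup G) : Set G)) := by
    have h216 : Nat.card (normalizer (((D.T hG : Sylow 3 G) : Subgroup G) : Set G)) = 216 := D.card_norm hG hC
    refine piSub hG ?_ h2 h3 ?_
    · rw [h216]; norm_num
    · rw [h216]; intro h; norm_num at h
  obtain ⟨H, hH, hNH, -⟩ := hD.overgroups (D.T hG) hN
  have h1 := card_hall (a := 2 ^ 11 * 27) (b := 5 ^ 2 * 13) hH (by rw [hG]; norm_num) ?_ ?_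
  · exact no_sub D hG hC hNH h1.1
  · intro p hp hd
    rcases prime_of_dvd hp (hd.trans ⟨5 ^ 2 * 13, by norm_num⟩) with rfl | rfl | rfl | rfl
    · exact h2
    · exact h3
    · norm_num at hd
    · norm_num at hd
  · intro p hp hd
    rcases prime_of_dvd hp (hd.trans ⟨2 ^ 11 * 27, by norm_num⟩) with rfl | rfl | rfl | rfl
    · norm_num at hd
    · norm_num at hd
    · exact h5
    · exact h13

include hx hG h5c h2 h3 hD in
/-- `π ∩ {5, 13} = {13}` -/
theorem case_thirteen (h5 : 5 ∉ π) (h13 : 13 ∈ π) : False := by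
  have p13 : Nat.Prime 13 := by norm_num
  have f13 : Fact (Nat.Prime 13) := ⟨p13⟩
  have hpp : ¬ 13 * 13 ∣ Nat.card G := by rw [hG]; norm_num
  have hP : IsPGroup 13 (zpowers x) := IsPGroup.of_card (n := 1) (by rw [Nat.card_zpowers, hx, pow_one])
  have hi : ¬ 13 ∣ (zpowers x).index := by
    intro h
    apply hpp
    rw [← (zpowers x).card_mul_index, Nat.card_zpowers, hx]
    exact Nat.mul_dvd_mul_left _ h
  have h5x : ¬ 5 ∣ Nat.card (centralizer ({x} : Set G)) := by
    intro h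
    have : Fact (Nat.Prime 5) := ⟨by norm_num⟩
    obtain ⟨y, hy⟩ := exists_prime_orderOf_dvd_card' (G := centralizer ({x} : Set G)) 5 h
    have hy' : orderOf (y : G) = 5 := by rw [orderOf_coe, hy]
    have h5 : orderOf x ∣ Nat.card (centralizer ({(y : G)} : Set G)) :=
      orderOf_dvd_natCard _ (mem_cent.2 (mem_cent.1 y.2).symm)
    rw [h5c _ hy', hx] at h5
    norm_num at h5
  have h5N : ¬ 5 ∣ Nat.card (normalizer (zpowers x : Set G)) := by
    intro h
    have h1 := h.trans (card_normalizer_dvd p13 hx)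
    rcases (Nat.prime_five.dvd_mul).1 h1 with h1 | h1
    · exact h5x h1
    · norm_num at h1
  have hN : IsPiSubgroup π (normalizer ((hP.toSylow hi : Sylow 13 G) : Set G)) := piSub hG h5N h2 h3 fun _ => h13
  obtain ⟨H, hH, hNH, -⟩ := hD.overgroups (hP.toSylow hi) hN
  have hNH' : normalizer (zpowers x : Set G) ≤ H := hNH
  have hxH : x ∈ H := hNH' (le_normalizer (mem_zpowers x))
  have h1 := card_hall (a := 2 ^ 11 * 27 * 13) (b := 5 ^ 2) hH (by rw [hG]; norm_num) ?_ ?_
  · have e1 := index_normalizer p13 hx hpp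
    have e2 := index_normalizer (G := H) p13 (x := ⟨x, hxH⟩) (by rw [← hx]; exact orderOf_mk x hxH)
      (by rw [h1.1]; norm_num)
    have e3 : normalizer (zpowers (⟨x, hxH⟩ : H) : Set H) = (normalizer (zpowers x : Set G)).subgroupOf H := by
      have h6 : ∀ w : H, w ∈ zpowers (⟨x, hxH⟩ : H) ↔ (w : G) ∈ zpowers x := by
        intro w
        rw [mem_zpowers_iff, mem_zpowers_iff]
        exact ⟨fun ⟨k, hk⟩ => ⟨k, by rw [← hk]; rfl⟩, fun ⟨k, hk⟩ => ⟨k, Subtype.ext (by rw [← hk]; rfl)⟩⟩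
      ext c
      rw [mem_subgroupOf]
      constructor
      · intro hc
        have h7 := (mem_normalizer_iff.1 hc) ⟨x, hxH⟩
        have h8 : (c : G) * x * (c : G)⁻¹ ∈ zpowers x := (h6 _).1 (h7.1 (mem_zpowers _))
        have hx1 : x ≠ 1 := by
          intro h
          rw [h, orderOf_one] at hx
          omega
        exact conj_mem_normalizer_of_prime p13 hx (mem_zpowers x) hx1 h8 rfl
      · intro hc
        rw [mem_normalizer_iff]
        intro w
        rw [h6, h6]
        exact mem_normalizer_iff.1 hc w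
    have e4 : (normalizer (zpowers x : Set G)).relIndex H * H.index = (normalizer (zpowers x : Set G)).index :=
      relIndex_mul_index hNH'
    rw [e3] at e2
    have e5 : (normalizer (zpowers x : Set G)).relIndex H ≡ 1 [MOD 13] := e2
    have e6 : 1 * H.index ≡ 1 [MOD 13] := ((e5.symm.mul_right H.index).trans (by rw [e4])).trans e1
    rw [h1.2] at e6
    revert e6
    decide
  · intro p hp hd
    rcases prime_of_dvd hp (hd.trans ⟨5 ^ 2, by norm_num⟩) with rfl | rfl | rfl | rfl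
    · exact h2
    · exact h3
    · norm_num at hd
    · exact h13
  · intro p hp hd
    rcases prime_of_dvd hp (hd.trans ⟨2 ^ 11 * 27 * 13, by norm_num⟩) with rfl | rfl | rfl | rfl
    · norm_num at hd
    · norm_num at hd
    · exact h5
    · norm_num at hd

include hG h2 h3 hD in
/-- `π ∩ {5, 13} = {5}` -/
theorem case_five [IsSimpleGroup G] (h5 : 5 ∈ π) (h13 : 13 ∉ π) : False := by
  obtain ⟨H, hH⟩ := hD.exists_hall
  have h1 := card_hall (a := 2 ^ 11 * 27 * 5 ^ 2) (b := 13) hH (by rw [hG]; norm_num) ?_ ?_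
  · have hker : (MulAction.toPermHom G (G ⧸ H)).ker = ⊥ := by
      rcases (inferInstance : (MulAction.toPermHom G (G ⧸ H)).ker.Normal).eq_bot_or_eq_top with h | h
      · exact h
      · exfalso
        have h4 : H.normalCore = ⊤ := by rw [Subgroup.normalCore_eq_ker, h]
        have h6 : H = ⊤ := top_le_iff.1 (h4 ▸ H.normalCore_le)
        have := h1.2
        rw [h6, index_top] at this
        omega
    have h4 : Nat.card G ∣ Nat.card (Equiv.Perm (G ⧸ H)) :=
      card_dvd_of_injective _ ((MonoidHom.ker_eq_bot_iff _).1 hker)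
    rw [Nat.card_perm, ← Subgroup.index_eq_card, h1.2, hG] at h4
    revert h4
    decide
  · intro p hp hd
    rcases prime_of_dvd hp (hd.trans ⟨13, by norm_num⟩) with rfl | rfl | rfl | rfl
    · exact h2
    · exact h3
    · exact h5
    · norm_num at hd
  · intro p hp hd
    rcases prime_of_dvd hp (hd.trans ⟨2 ^ 11 * 27 * 5 ^ 2, by norm_num⟩) with rfl | rfl | rfl | rfl
    · norm_num at hd
    · norm_num at hd
    · norm_num at hd
    · exact h13

include D hx hG hC h5c h2 h3 hD in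
theorem row_core [IsSimpleGroup G] : PiGrp π G := by
  by_cases h5 : 5 ∈ π
  · by_cases h13 : 13 ∈ π
    · intro p hp hd
      rw [hG] at hd
      rcases prime_of_dvd hp hd with rfl | rfl | rfl | rfl
      · exact h2
      · exact h3
      · exact h5
      · exact h13
    · exact (case_five hG h2 h3 hD h5 h13).elim
  · by_cases h13 : 13 ∈ π
    · exact (case_thirteen x hx hG h5c h2 h3 hD h5 h13).elim
    · exact (case_none D hG hC h2 h3 hD h5 h13).elim

end row

theorem row_gen {G : Type} [Group G] [Finite G] [IsSimpleGroup G] (D : TT G) (D' : H87.TitsAbs.Dat G)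
    (O : CpAutTits.Row.Out G) {π : Set ℕ} (h2 : 2 ∈ π) (h3 : 3 ∈ π) (hD : DC π G) : PiGrp π G := by
  have : Fact (Nat.Prime 13) := ⟨by norm_num⟩
  exact row_core D D'.x (orderOf_eq_prime D'.x13 D'.x1) O.card (card_cent_of D' O D.z3 D.z1) O.cent h2 h3 hD

/-- **S3876, the row of the Tits group.** -/
theorem row_Tits {S : Type u} [Group S] [Finite S] (h : Cfsg.Lie.IsoTits S) {π : Set ℕ} (h2 : 2 ∈ π) (h3 : 3 ∈ π)
    (hD : DC π S) : PiGrp π S := by
  obtain ⟨e⟩ := h
  have hfin : Finite Cfsg.Lie.TitsGroup := Finite.of_equiv S e.toEquiv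
  have hs : IsSimpleGroup Cfsg.Lie.TitsGroup := Cfsg.Agent.S1074.result.2.1
  obtain ⟨D⟩ := tt_tits
  obtain ⟨D'⟩ := H87.TitsData.dat_tits
  have h1 := row_gen D D' (CpAutTits.Row.out ⟨MulEquiv.refl _⟩) h2 h3 (hD.congr e)
  intro p hp hd
  exact h1 p hp (by rwa [Nat.card_congr e.toEquiv] at hd)

end Cfsg.Agent.H327.PB
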