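import Cfsg.Agent.H745.RvTits
import Cfsg.Agent.H543.PiBS.Gen
import Cfsg.Agent.Lib.Cores
import Cfsg.Agent.Lib.SolvableNormalP
import Cfsg.Agent.S0144

/-!
# S3876, the row of the Tits group: abstract part (helper327)

`TT` is the configuration of `H745.RvTits`. A group `X` of order `2 ^ 11 * 27` cannot contain it with the
centralizers of the Tits group.
-/

set_option autoImplicit false
set_option linter.unusedSectionVars false

namespace Cfsg.Agent.H327.PB

open Subgroup Cfsg.Agent.H745.RvTits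

universe u

section normalform

variable {G : Type u} [Group G] (D : TT G)

/-- the elements of `R` -/
def nf (i j k : ℕ) : G := D.u ^ i * D.r ^ j * D.z ^ k

theorem czu (a c : ℕ) : Commute (D.z ^ c) (D.u ^ a) := Commute.pow_pow (show Commute D.z D.u from D.zu) c a

theorem czr (a c : ℕ) : Commute (D.z ^ c) (D.r ^ a) := Commute.pow_pow (show Commute D.z D.r from D.zr) c a

theorem rur : D.r * D.u * D.r⁻¹ = D.u * D.z := by
  rw [D.ru, ← mul_assoc, mul_inv_cancel_right, D.zu]

theorem rupow (i : ℕ) : D.r * D.u ^ i * D.r⁻¹ = D.u ^ i * D.z ^ i := by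
  rw [← conj_pow, rur, (show Commute D.u D.z from D.zu.symm).mul_pow]

theorem r_upow (i : ℕ) : D.r * D.u ^ i = D.u ^ i * D.z ^ i * D.r := by
  rw [← rupow, inv_mul_cancel_right]

/-- `r^j u^i = u^i r^j z^(i j)` -/
theorem swap (i j : ℕ) : D.r ^ j * D.u ^ i = D.u ^ i * D.r ^ j * D.z ^ (i * j) := by
  induction j with
  | zero => simp
  | succ j ih =>
    rw [pow_succ' D.r, mul_assoc, ih]
    calc D.r * (D.u ^ i * D.r ^ j * D.z ^ (i * j)) = D.r * D.u ^ i * D.r ^ j * D.z ^ (i * j) := by group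
      _ = D.u ^ i * (D.z ^ i * (D.r * D.r ^ j)) * D.z ^ (i * j) := by rw [r_upow]; group
      _ = D.u ^ i * ((D.r * D.r ^ j) * D.z ^ i) * D.z ^ (i * j) := by
        rw [← pow_succ', (czr D (j + 1) i).eq]
      _ = D.u ^ i * (D.r * D.r ^ j) * (D.z ^ i * D.z ^ (i * j)) := by group
      _ = _ := by rw [← pow_add]; congr 2; ring

theorem nf_mul (i j k i' j' k' : ℕ) : nf D i j k * nf D i' j' k' = nf D (i + i') (j + j') (k + k' + i' * j) := by
  unfold nf
  calc D.u ^ i * D.r ^ j * D.z ^ k * (D.u ^ i' * D.r ^ j' * D.z ^ k')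
      = D.u ^ i * D.r ^ j * (D.z ^ k * D.u ^ i') * D.r ^ j' * D.z ^ k' := by group
    _ = D.u ^ i * (D.r ^ j * D.u ^ i') * (D.z ^ k * D.r ^ j') * D.z ^ k' := by rw [(czu D i' k).eq]; group
    _ = D.u ^ i * D.u ^ i' * D.r ^ j * (D.z ^ (i' * j) * D.r ^ j') * D.z ^ k * D.z ^ k' := by
      rw [(czr D j' k).eq, swap]; group
    _ = (D.u ^ i * D.u ^ i') * (D.r ^ j * D.r ^ j') * (D.z ^ (i' * j) * D.z ^ k * D.z ^ k') := by
      rw [(czr D j' (i' * j)).eq]; group
    _ = _ := by
      rw [← pow_add, ← pow_add, ← pow_add, ← pow_add]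
      congr 2
      ring

theorem nf_one : nf D 0 0 0 = 1 := by simp [nf]

theorem pow_three_mul {x : G} (hx : x ^ 3 = 1) (m : ℕ) : x ^ (3 * m) = 1 := by rw [pow_mul, hx, one_pow]

theorem nf_three (i j k : ℕ) : nf D (3 * i) (3 * j) (3 * k) = 1 := by
  unfold nf
  rw [pow_three_mul D.u3, pow_three_mul D.r3, pow_three_mul D.z3, one_mul, one_mul]

theorem nf_inv (i j k : ℕ) : (nf D i j k)⁻¹ = nf D (2 * i) (2 * j) (2 * k + 4 * (i * j)) := by
  rw [inv_eq_iff_mul_eq_one, nf_mul, ← nf_three D i j (k + 2 * (i * j))]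
  congr 1 <;> ring

theorem exists_nf {x : G} (hx : x ∈ D.R) : ∃ i j k, x = nf D i j k := by
  induction hx using closure_induction with
  | mem x hx =>
    simp only [Set.mem_insert_iff, Set.mem_singleton_iff] at hx
    rcases hx with rfl | rfl | rfl
    · exact ⟨1, 0, 0, by simp [nf]⟩
    · exact ⟨0, 1, 0, by simp [nf]⟩
    · exact ⟨0, 0, 1, by simp [nf]⟩
  | one => exact ⟨0, 0, 0, (nf_one D).symm⟩
  | mul x y _ _ hx hy =>
    obtain ⟨i, j, k, rfl⟩ := hx
    obtain ⟨i', j', k', rfl⟩ := hy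
    exact ⟨_, _, _, nf_mul D i j k i' j' k'⟩
  | inv x _ hx =>
    obtain ⟨i, j, k, rfl⟩ := hx
    exact ⟨_, _, _, nf_inv D i j k⟩

theorem g_nf (i j k : ℕ) : D.g * nf D i j k * D.g⁻¹ = nf D j (2 * i) (k + j * (2 * i)) := by
  have e1 : D.g * D.u * D.g⁻¹ = D.r ^ 2 := by rw [D.gu, mul_inv_cancel_right]
  have e2 : D.g * D.r * D.g⁻¹ = D.u := by rw [D.gr, mul_inv_cancel_right]
  have e3 : D.g * D.z * D.g⁻¹ = D.z := by rw [D.gz, mul_inv_cancel_right]
  unfold nf
  calc D.g * (D.u ^ i * D.r ^ j * D.z ^ k) * D.g⁻¹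
      = (D.g * D.u ^ i * D.g⁻¹) * (D.g * D.r ^ j * D.g⁻¹) * (D.g * D.z ^ k * D.g⁻¹) := by group
    _ = D.r ^ (2 * i) * D.u ^ j * D.z ^ k := by
      rw [← conj_pow, ← conj_pow, ← conj_pow, e1, e2, e3, ← pow_mul]
    _ = _ := by rw [swap, mul_assoc, ← pow_add, add_comm]

/-- an element of `R` which commutes with its conjugate under `g` is a power of `z` -/
theorem mem_zpowers_of {x : G} (hx : x ∈ D.R) (hc : x * (D.g * x * D.g⁻¹) = (D.g * x * D.g⁻¹) * x) :
    x ∈ zpowers D.z := by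
  obtain ⟨i, j, k, rfl⟩ := exists_nf D hx
  rw [g_nf, nf_mul, nf_mul] at hc
  have h1 : D.z ^ (j * j) = D.z ^ (2 * (i * i)) := by
    unfold nf at hc
    rw [show j + i = i + j from add_comm _ _, show 2 * i + j = j + 2 * i from add_comm _ _] at hc
    have h2 := mul_left_cancel hc
    rw [show k + (k + j * (2 * i)) + j * j = (2 * k + 2 * (i * j)) + j * j by ring,
      show k + j * (2 * i) + k + i * (2 * i) = (2 * k + 2 * (i * j)) + 2 * (i * i) by ring,
      pow_add D.z (2 * k + 2 * (i * j)) (j * j), pow_add D.z (2 * k + 2 * (i * j)) (2 * (i * i))] at h2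
    exact mul_left_cancel h2
  have : Fact (Nat.Prime 3) := ⟨Nat.prime_three⟩
  have ho : orderOf D.z = 3 := orderOf_eq_prime D.z3 D.z1
  have h2 : j * j ≡ 2 * (i * i) [MOD 3] := by
    rw [← ho]
    exact pow_eq_pow_iff_modEq.1 h1
  have h3 : i % 3 = 0 ∧ j % 3 = 0 := by
    have h4 : (j % 3) * (j % 3) % 3 = 2 * ((i % 3) * (i % 3)) % 3 := by
      have := h2
      unfold Nat.ModEq at this
      rw [Nat.mul_mod j j, Nat.mul_mod 2, Nat.mul_mod i i] at this
      rw [this, Nat.mul_mod 2 (i % 3 * (i % 3))]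
    have h5 : i % 3 < 3 := Nat.mod_lt _ (by norm_num)
    have h6 : j % 3 < 3 := Nat.mod_lt _ (by norm_num)
    generalize i % 3 = a at *
    generalize j % 3 = b at *
    interval_cases a <;> interval_cases b <;> simp_all
  obtain ⟨i', rfl⟩ := Nat.dvd_of_mod_eq_zero h3.1
  obtain ⟨j', rfl⟩ := Nat.dvd_of_mod_eq_zero h3.2
  unfold nf
  rw [pow_three_mul D.u3, pow_three_mul D.r3, one_mul, one_mul]
  exact npow_mem_zpowers _ _

end normalform

section abs

variable {X : Type u} [Group X] [Finite X] (D : TT X) (hR : Nat.card D.R = 27)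
  (hCN : centralizer ({D.z} : Set X) ≤ normalizer (D.R : Set X)) (hCR : centralizer (D.R : Set X) ≤ D.R)

include hR in
theorem isPGroup_R : IsPGroup 3 D.R := IsPGroup.of_card (n := 3) (by rw [hR]; norm_num)

include hR in
theorem inf_eq {V : Subgroup X} (hV : IsPGroup 2 V) {x : X} (h1 : x ∈ V) (h2 : x ∈ D.R) : x = 1 := by
  have h3 := IsPGroup.disjoint_of_ne (hp₁ := ⟨Nat.prime_two⟩) (hp₂ := ⟨Nat.prime_three⟩) 2 3 (by norm_num) V D.R hV
    (isPGroup_R D hR)
  exact (disjoint_def.1 h3) h1 h2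

include hR hCN hCR in
/-- `z` has no fixed points on a normal 2-subgroup -/
theorem fix_eq_one {V : Subgroup X} [hVn : V.Normal] (hV : IsPGroup 2 V) {v : X} (hv : v ∈ V)
    (hc : v * D.z = D.z * v) : v = 1 := by
  have h1 : v ∈ normalizer (D.R : Set X) := hCN (by rw [mem_centralizer_singleton_iff]; exact hc)
  have h2 : v ∈ centralizer (D.R : Set X) := by
    rw [mem_centralizer_iff]
    intro y hy
    have h3 : v * y * v⁻¹ * y⁻¹ ∈ D.R := mul_mem ((mem_normalizer_iff.1 h1 y).1 hy) (inv_mem hy)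
    have h4 : v * y * v⁻¹ * y⁻¹ ∈ V := by
      have : v * y * v⁻¹ * y⁻¹ = v * (y * v⁻¹ * y⁻¹) := by group
      rw [this]
      exact mul_mem hv (hVn.conj_mem _ (inv_mem hv) y)
    have h5 := inf_eq D hR hV h4 h3
    have h6 : v * y = y * v := by
      have : v * y * v⁻¹ * y⁻¹ * (y * v) = v * y := by group
      rw [h5, one_mul] at this
      exact this.symm
    exact h6.symm
  exact inf_eq D hR hV hv (hCR h2)

/-- in a group of order 27 a subgroup properly containing a subgroup of order 9 is everything -/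
theorem eq_top_of_lt {Y : Type u} [Group Y] [Finite Y] (hY : Nat.card Y = 27) {B C : Subgroup Y}
    (hB : Nat.card B = 9) (hBC : B ≤ C) {y : Y} (hy : y ∈ C) (hyB : y ∉ B) : C = ⊤ := by
  have h1 : 9 ∣ Nat.card C := by
    rw [← hB]
    exact card_dvd_of_le hBC
  have h2 : Nat.card C ∣ 27 := by
    rw [← hY]
    exact card_subgroup_dvd_card C
  have h3 : Nat.card C ≠ 9 := by
    intro h
    exact hyB ((eq_of_le_of_card_ge hBC (by rw [h, hB])) ▸ hy)
  apply eq_top_of_card_eq
  rw [hY]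
  obtain ⟨k, hk⟩ := h1
  rw [hk] at h2 h3 ⊢
  have h4 : k ∣ 3 := by
    have : 9 * k ∣ 9 * 3 := by simpa using h2
    exact Nat.dvd_of_mul_dvd_mul_left (by norm_num) this
  rcases (Nat.dvd_prime Nat.prime_three).1 h4 with rfl | rfl
  · simp at h3
  · norm_num

/-- a subgroup of a nonabelian group of order 27 missing a central element has order 1 or 3 -/
theorem nine_dvd_index {Y : Type u} [Group Y] [Finite Y] (hY : Nat.card Y = 27) {z a b : Y} (hz : z ∈ center Y)
    (hab : a * b ≠ b * a) {B : Subgroup Y} (hzB : z ∉ B) : 9 ∣ B.index := by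
  have h1 := B.card_mul_index
  rw [hY] at h1
  have h2 : Nat.card B ∣ 3 ^ 3 := by
    have : Nat.card B ∣ 27 := ⟨_, h1.symm⟩
    simpa using this
  obtain ⟨k, hk, hk'⟩ := (Nat.dvd_prime_pow Nat.prime_three).1 h2
  have h3 : k ≠ 3 := by
    rintro rfl
    have : B = ⊤ := eq_top_of_card_eq _ (by rw [hk', hY]; norm_num)
    exact hzB (this ▸ mem_top z)
  have h4 : k ≠ 2 := by
    rintro rfl
    have hB : Nat.card B = 9 := by rw [hk']; norm_num
    have : Fact (Nat.Prime 3) := ⟨Nat.prime_three⟩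
    have hBc : ∀ x ∈ B, ∀ y ∈ B, x * y = y * x := by
      have := IsPGroup.isMulCommutative_of_card_eq_prime_sq (p := 3) hk'
      intro x hx y hy
      exact congrArg Subtype.val (this.is_comm.comm ⟨x, hx⟩ ⟨y, hy⟩)
    have h5 : centralizer (B : Set Y) = ⊤ := by
      refine eq_top_of_lt hY hB ?_ (y := z) ?_ hzB
      · intro x hx
        rw [mem_centralizer_iff]
        exact fun y hy => hBc y hy x hx
      · rw [mem_centralizer_iff]
        exact fun y _ => mem_center_iff.1 hz y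
    have h6 : center Y = ⊤ := by
      refine eq_top_of_lt hY hB ?_ (y := z) hz hzB
      intro x hx
      rw [mem_center_iff]
      intro y
      have : y ∈ centralizer (B : Set Y) := h5 ▸ mem_top y
      exact (mem_centralizer_iff.1 this x hx).symm
    apply hab
    have : b ∈ center Y := h6 ▸ mem_top b
    exact mem_center_iff.1 this a
  have h7 : k = 0 ∨ k = 1 := by omega
  rcases h7 with rfl | rfl
  · rw [hk'] at h1
    omega
  · rw [hk'] at h1
    omega

/-- if all point stabilizers have index divisible by `n`, so is the number of points -/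
theorem dvd_card_of_index {Y : Type u} [Group Y] [Finite Y] {Ω : Type u} [Finite Ω] [MulAction Y Ω] {n : ℕ}
    (h : ∀ w : Ω, n ∣ (MulAction.stabilizer Y w).index) : n ∣ Nat.card Ω := by
  classical
  have e := MulAction.selfEquivSigmaOrbitsQuotientStabilizer Y Ω
  rw [Nat.card_congr e]
  have := Fintype.ofFinite (Quotient (MulAction.orbitRel Y Ω))
  rw [Nat.card_sigma]
  exact Finset.dvd_sum fun w _ => h _

include hR hCN hCR in
theorem nine_dvd {V : Subgroup X} [hVn : V.Normal] (hV : IsPGroup 2 V) : 9 ∣ Nat.card {v : X // v ∈ V ∧ v ≠ 1} := by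
  let act : MulAction D.R {v : X // v ∈ V ∧ v ≠ 1} :=
    { smul := fun r v => ⟨(r : X) * v * (r : X)⁻¹, hVn.conj_mem _ v.2.1 _, fun h => v.2.2 (conj_eq_one_iff.1 h)⟩
      one_smul := fun v => Subtype.ext (by
        show ((1 : D.R) : X) * v * ((1 : D.R) : X)⁻¹ = v
        simp)
      mul_smul := fun r s v => Subtype.ext (by
        show ((r * s : D.R) : X) * v * ((r * s : D.R) : X)⁻¹ = (r : X) * ((s : X) * v * (s : X)⁻¹) * (r : X)⁻¹
        rw [coe_mul]
        group) }
  apply dvd_card_of_index (Y := D.R)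
  intro w
  refine nine_dvd_index hR (z := ⟨D.z, D.zR⟩) (a := ⟨D.r, D.rR⟩) (b := ⟨D.u, D.uR⟩) ?_ ?_ ?_
  · rw [mem_center_iff]
    exact fun y => Subtype.ext (D.z_comm y.2)
  · exact fun h => D.ru_ne (congrArg Subtype.val h)
  · intro h
    rw [MulAction.mem_stabilizer_iff] at h
    have h1 : D.z * (w : X) * D.z⁻¹ = w := congrArg Subtype.val h
    apply w.2.2
    refine fix_eq_one D hR hCN hCR hV w.2.1 ?_
    rw [mul_inv_eq_iff_eq_mul] at h1
    exact h1.symm

theorem card_ne_one (V : Subgroup X) : Nat.card {v : X // v ∈ V ∧ v ≠ 1} + 1 = Nat.card V := by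
  classical
  have h := Finite.card_option (α := {v : X // v ∈ V ∧ v ≠ 1})
  rw [← h]
  refine Nat.card_eq_of_bijective (fun o : Option {v : X // v ∈ V ∧ v ≠ 1} => match o with
    | none => (1 : V)
    | some v => ⟨v.1, v.2.1⟩) ⟨?_, ?_⟩
  · rintro (_ | a) (_ | b) hab
    · rfl
    · exact absurd (congrArg Subtype.val hab).symm b.2.2
    · exact absurd (congrArg Subtype.val hab) a.2.2
    · have : (a : X) = b := congrArg (fun w : V => (w : X)) hab
      rw [Subtype.ext this]
  · rintro ⟨v, hv⟩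
    by_cases h1 : v = 1
    · subst h1
      exact ⟨none, rfl⟩
    · exact ⟨some ⟨v, hv, h1⟩, rfl⟩

include hR hCN hCR in
/-- **no group of order `2 ^ 11 * 27` contains the configuration**. -/
theorem false_of (hX : Nat.card X = 2 ^ 11 * 27) (hC : Nat.card (centralizer ({D.z} : Set X)) = 108) : False := by
  have h2 : Fact (Nat.Prime 2) := ⟨Nat.prime_two⟩
  have h3 : Fact (Nat.Prime 3) := ⟨Nat.prime_three⟩
  have hsol : Group.IsSolvable X := Cfsg.Agent.S0144.result 2 3 11 3 Nat.prime_two Nat.prime_three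
    (by rw [hX]; norm_num)
  set V := pCore 2 X with hVdef
  have hVn : V.Normal := Cfsg.Agent.Lib.Cores.pCore_normal 2
  have hV : IsPGroup 2 V := Cfsg.Agent.Lib.Cores.pCore_isPGroup 2
  have hQ : pCore 2 (X ⧸ V) = ⊥ := Cfsg.Agent.Lib.Cores.pCore_quotient_pCore 2
  obtain ⟨a, ha⟩ := IsPGroup.iff_card.1 hV
  have hVi : V.index = 2 ^ (11 - a) * 27 ∧ a ≤ 11 := by
    have h := V.card_mul_index
    rw [ha, hX] at h
    have h4 : 2 ^ a ∣ 2 ^ 11 := by
      have h5 : 2 ^ a ∣ 2 ^ 11 * 27 := ⟨_, h.symm⟩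
      exact (Nat.Coprime.pow_left a (by norm_num)).dvd_of_dvd_mul_right h5
    have h5 : a ≤ 11 := (Nat.pow_dvd_pow_iff_le_right (by norm_num)).1 h4
    refine ⟨?_, h5⟩
    apply Nat.eq_of_mul_eq_mul_left (Nat.pos_of_ne_zero (pow_ne_zero a two_ne_zero))
    rw [h, ← mul_assoc, ← pow_add, Nat.add_sub_cancel' h5]
  have hnt : Nontrivial (X ⧸ V) := by
    rw [← Finite.one_lt_card_iff_nontrivial, ← Subgroup.index_eq_card, hVi.1]
    have := Nat.one_le_two_pow (n := 11 - a)
    omega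
  have hsQ : Group.IsSolvable (X ⧸ V) := inferInstance
  obtain ⟨p, A, hp, hAn, hAp, hAc, hA1⟩ := Cfsg.Agent.Lib.SolvableNormalP.exists_normal_pSubgroup (X ⧸ V)
  have hfp : Fact p.Prime := ⟨hp⟩
  obtain ⟨k, hk⟩ := IsPGroup.iff_card.1 hAp
  have hk0 : k ≠ 0 := by
    rintro rfl
    exact hA1 (A.eq_bot_of_card_eq (by rw [hk, pow_zero]))
  have hp3 : p = 3 := by
    have h4 : p ≠ 2 := by
      rintro rfl
      exact hA1 (le_bot_iff.1 (hQ ▸ Cfsg.Agent.Lib.Cores.le_pCore hAn hAp))
    have h5 : p ∣ 2 ^ (11 - a) * 27 := by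
      rw [← hVi.1, Subgroup.index_eq_card]
      exact ((dvd_pow_self p hk0).trans (hk ▸ dvd_rfl)).trans (card_subgroup_dvd_card A)
    rcases (hp.dvd_mul).1 h5 with h6 | h6
    · exact absurd ((Nat.prime_dvd_prime_iff_eq hp Nat.prime_two).1 (hp.dvd_of_dvd_pow h6)) h4
    · have h7 : p ∣ 3 ^ 3 := by simpa using h6
      exact (Nat.prime_dvd_prime_iff_eq hp Nat.prime_three).1 (hp.dvd_of_dvd_pow h7)
  subst hp3
  set M := A.comap (QuotientGroup.mk' V) with hM
  have hMn : M.Normal := inferInstance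
  have hVM : V ≤ M := by
    intro v hv
    rw [hM, mem_comap]
    have : QuotientGroup.mk' V v = 1 := (QuotientGroup.eq_one_iff v).2 hv
    rw [this]
    exact one_mem _
  have hMcard : Nat.card M = Nat.card V * 3 ^ k := by
    have h4 : M.index = A.index := index_comap_of_surjective _ (QuotientGroup.mk'_surjective V)
    have h5 := M.card_mul_index
    have h6 := V.card_mul_index
    have h7 := A.card_mul_index
    rw [← Subgroup.index_eq_card] at h7
    rw [← h6, ← h7, h4, hk, ← mul_assoc] at h5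
    exact Nat.eq_of_mul_eq_mul_right (Nat.pos_of_ne_zero Subgroup.index_ne_zero_of_finite) h5
  -- commutators of `M` lie in `V`
  have hMc : ∀ x ∈ M, ∀ y ∈ M, x * y * x⁻¹ * y⁻¹ ∈ V := by
    intro x hx y hy
    rw [← QuotientGroup.eq_one_iff]
    have h4 := hAc.is_comm.comm (⟨QuotientGroup.mk' V x, hx⟩ : A) ⟨QuotientGroup.mk' V y, hy⟩
    have h5 : (QuotientGroup.mk' V x) * (QuotientGroup.mk' V y) = (QuotientGroup.mk' V y) * (QuotientGroup.mk' V x) :=
      congrArg Subtype.val h4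
    change QuotientGroup.mk' V (x * y * x⁻¹ * y⁻¹) = 1
    rw [map_mul, map_mul, map_mul, h5, map_inv, map_inv]
    group
  -- `M ∩ R ≤ ⟨z⟩`
  have hMR : ∀ x ∈ M, x ∈ D.R → x ∈ zpowers D.z := by
    intro x hx hxR
    have h4 : D.g * x * D.g⁻¹ ∈ D.R := (mem_normalizer_iff.1 D.gN x).1 hxR
    have h5 : D.g * x * D.g⁻¹ ∈ M := hMn.conj_mem _ hx _
    refine mem_zpowers_of D hxR ?_
    have h6 := inf_eq D hR hV (hMc _ hx _ h5) (mul_mem (mul_mem (mul_mem hxR h4) (inv_mem hxR)) (inv_mem h4))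
    exact (mul_inv_eq_one.1 (by rw [← h6]; group)).trans rfl
  have hRi : ¬ 3 ∣ D.R.index := by
    have h4 := D.R.card_mul_index
    rw [hR, hX] at h4
    have h5 : D.R.index = 2 ^ 11 := by omega
    rw [h5]
    norm_num
  have h3M : 3 ∣ Nat.card M := by
    rw [hMcard]
    exact (dvd_pow_self 3 hk0).mul_left _
  -- `z ∈ M`
  have hzM : D.z ∈ M := by
    obtain ⟨m, hm⟩ := exists_prime_orderOf_dvd_card' 3 h3M
    have hm3 : (m : X) ^ 3 ^ 1 = 1 := by
      have := pow_orderOf_eq_one m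
      rw [hm] at this
      simpa using congrArg Subtype.val this
    have hm1 : (m : X) ≠ 1 := by
      intro h
      have : m = 1 := Subtype.ext h
      rw [this, orderOf_one] at hm
      omega
    obtain ⟨c, hc⟩ := Cfsg.Agent.H20.FrobTits.exists_conj_mem (a := 3) Nat.prime_three (R := D.R)
      (by rw [hR]; norm_num) hRi hm3
    have h5 : c * m * c⁻¹ ∈ M := hMn.conj_mem _ m.2 _
    obtain ⟨i, hi⟩ := mem_zpowers_iff.1 (hMR _ h5 hc)
    have h1 : c * (m : X) * c⁻¹ ≠ 1 := fun h => hm1 (conj_eq_one_iff.1 h)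
    generalize c * (m : X) * c⁻¹ = w at *
    have h8 : D.z ^ i = D.z ^ (i % 3) := by
      conv_lhs => rw [← Int.emod_add_mul_ediv i 3, zpow_add, zpow_mul]
      have : D.z ^ (3 : ℤ) = 1 := by exact_mod_cast D.z3
      rw [this, one_zpow, mul_one]
    have h7 : i % 3 = 0 ∨ i % 3 = 1 ∨ i % 3 = 2 := by omega
    rcases h7 with h7 | h7 | h7
    · exfalso
      apply h1
      rw [← hi, h8, h7, zpow_zero]
    · rw [h8, h7, zpow_one] at hi
      rw [hi]
      exact h5
    · rw [h8, h7] at hi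
      have h9 : D.z ^ 2 = w := by exact_mod_cast hi
      have h10 : D.z = w * w := by
        rw [← h9, ← pow_add, show 2 + 2 = 3 + 1 from rfl, pow_add, D.z3, one_mul, pow_one]
      rw [h10]
      exact mul_mem h5 h5
  -- `|M| = 3 |V|`
  have hk1 : k ≤ 1 := by
    by_contra hcon
    have h4 : 3 ^ 2 ∣ Nat.card M := by
      rw [hMcard]
      exact (pow_dvd_pow 3 (by omega)).mul_left _
    obtain ⟨K, hK⟩ := Sylow.exists_subgroup_card_pow_prime 3 h4
    have hK' : Nat.card (K.map M.subtype) = 3 ^ 2 := by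
      rw [← hK]
      exact Nat.card_congr (K.equivMapOfInjective _ M.subtype_injective).symm.toEquiv
    obtain ⟨Q, hQ'⟩ := (IsPGroup.of_card hK').exists_le_sylow
    obtain ⟨c, hc⟩ := MulAction.exists_smul_eq X Q ((isPGroup_R D hR).toSylow hRi)
    have h5 : ∀ y ∈ K.map M.subtype, c * y * c⁻¹ ∈ zpowers D.z := by
      intro y hy
      have hyM : y ∈ M := by
        obtain ⟨y', -, rfl⟩ := hy
        exact y'.2
      refine hMR _ (hMn.conj_mem _ hyM _) ?_
      have h6 : c * y * c⁻¹ ∈ ((c • Q : Sylow 3 X) : Subgroup X) := by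
        rw [Sylow.coe_subgroup_smul]
        exact Subgroup.smul_mem_pointwise_smul _ _ _ (hQ' hy)
      rw [hc] at h6
      exact h6
    have h6 : Nat.card (K.map M.subtype) ≤ Nat.card (zpowers D.z) := by
      refine Nat.card_le_card_of_injective (fun y => ⟨c * y * c⁻¹, h5 _ y.2⟩) ?_
      intro y y' h
      have h7 : c * (y : X) * c⁻¹ = c * (y' : X) * c⁻¹ := congrArg Subtype.val h
      exact Subtype.ext (mul_left_cancel (mul_right_cancel h7))
    rw [hK', Nat.card_zpowers, orderOf_eq_prime D.z3 D.z1] at h6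
    norm_num at h6
  have hk' : k = 1 := by omega
  -- the class of `z`
  have h4 : Nat.card {x : X // IsConj D.z x} = 512 := by
    rw [Cfsg.Agent.H20.FrobTits.TData.card_class]
    have := (centralizer ({D.z} : Set X)).card_mul_index
    rw [hC, hX] at this
    omega
  have h5 : Nat.card {x : X // IsConj D.z x} ≤ Nat.card M := by
    refine Nat.card_le_card_of_injective (fun x => ⟨x.1, ?_⟩) ?_
    · obtain ⟨c, hc⟩ := isConj_iff.1 x.2
      rw [← hc]
      exact hMn.conj_mem _ hzM _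
    · intro x y h
      exact Subtype.ext (congrArg (fun w : M => (w : X)) h)
  rw [h4, hMcard, ha, hk'] at h5
  have h6 := nine_dvd D hR hCN hCR hV
  have h7 := card_ne_one V
  rw [ha] at h7
  have h8 := hVi.2
  obtain ⟨n, hn⟩ := h6
  rw [hn] at h7
  interval_cases a <;> omega

end abs

end Cfsg.Agent.H327.PB
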